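import Cfsg.Agent.Spor.SuzA1.D0

set_option autoImplicit false
set_option maxRecDepth 100000000
set_option Elab.async false

namespace Cfsg.Agent.Spor.SuzA1

theorem ok0 : Net.okb 1 n0 = true := by decide +kernel

theorem ok1 : Net.okb 1 n1 = true := by decide +kernel

theorem ok2 : Net.okb 1 n2 = true := by decide +kernel

theorem ok3 : Net.okb 1 n3 = true := by decide +kernel

theorem ok4 : Net.okb 1 n4 = true := by decide +kernel

theorem ok5 : Net.okb 1 n5 = true := by decide +kernel

theorem ok6 : Net.okb 1 n6 = true := by decide +kernel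

theorem rel0 : T.rel 1 [1, 1] 0 1 = true := by decide +kernel

theorem rel1 : T.rel 1 [2, 2] 0 1 = true := by decide +kernel

theorem rel2 : T.rel 1 [3, 3] 0 1 = true := by decide +kernel

theorem rel3 : T.rel 1 [4, 4] 0 1 = true := by decide +kernel

theorem rel4 : T.rel 1 [5, 5] 0 1 = true := by decide +kernel

theorem rel5 : T.rel 1 [6, 6] 0 1 = true := by decide +kernel

theorem rel6 : T.rel 1 [7, 7] 0 1 = true := by decide +kernel

theorem rel7 : T.rel 1 [2, 1, 2, 1, 2, 1, 2, 1, 2, 1] 0 1 = true := by decide +kernel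

theorem rel8 : T.rel 1 [3, 1, 3, 1] 0 1 = true := by decide +kernel

theorem rel9 : T.rel 1 [4, 1, 4, 1] 0 1 = true := by decide +kernel

theorem rel10 : T.rel 1 [5, 1, 5, 1] 0 1 = true := by decide +kernel

theorem rel11 : T.rel 1 [6, 1, 6, 1] 0 1 = true := by decide +kernel

theorem rel12 : T.rel 1 [7, 1, 7, 1] 0 1 = true := by decide +kernel

theorem rel13 : T.rel 1 [3, 2, 3, 2, 3, 2] 0 1 = true := by decide +kernel

theorem rel14 : T.rel 1 [4, 2, 4, 2] 0 1 = true := by decide +kernel

theorem rel15 : T.rel 1 [5, 2, 5, 2] 0 1 = true := by decide +kernel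

theorem rel16 : T.rel 1 [6, 2, 6, 2, 6, 2] 0 1 = true := by decide +kernel

theorem rel17 : T.rel 1 [7, 2, 7, 2, 7, 2] 0 1 = true := by decide +kernel

theorem rel18 : T.rel 1 [4, 3, 4, 3, 4, 3, 4, 3, 4, 3, 4, 3, 4, 3, 4, 3] 0 1 = true := by decide +kernel

theorem rel19 : T.rel 1 [5, 3, 5, 3] 0 1 = true := by decide +kernel

theorem rel20 : T.rel 1 [6, 3, 6, 3] 0 1 = true := by decide +kernel

theorem rel21 : T.rel 1 [7, 3, 7, 3] 0 1 = true := by decide +kernel

theorem rel22 : T.rel 1 [5, 4, 5, 4, 5, 4] 0 1 = true := by decide +kernel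

theorem rel23 : T.rel 1 [6, 4, 6, 4] 0 1 = true := by decide +kernel

theorem rel24 : T.rel 1 [7, 4, 7, 4] 0 1 = true := by decide +kernel

theorem rel25 : T.rel 1 [6, 5, 6, 5] 0 1 = true := by decide +kernel

theorem rel26 : T.rel 1 [7, 5, 7, 5] 0 1 = true := by decide +kernel

theorem rel27 : T.rel 1 [7, 6, 7, 6, 7, 6, 7, 6] 0 1 = true := by decide +kernel

theorem rel28 : T.rel 1 [3, 4, 3, 4, 3, 4, 3, 4, 1] 0 1 = true := by decide +kernel

theorem rel29 : T.rel 1 [6, 7, 6, 7, 1] 0 1 = true := by decide +kernel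

theorem rel30 : T.rel 1 [6, 3, 2, 1, 6, 3, 2, 1, 6, 3, 2, 1, 6, 3, 2, 1, 6, 3, 2, 1] 0 1 = true := by decide +kernel

theorem rel31 : T.rel 1 [7, 6, 2, 7, 6, 2, 7, 6, 2, 7, 6, 2, 7, 6, 2] 0 1 = true := by decide +kernel

theorem rel32 : T.rel 1 [5, 4, 3, 4, 3, 2, 4, 3, 4, 3, 2, 4, 3, 4, 3, 2, 4, 3, 4, 3, 2, 4, 3, 4, 3, 2, 5, 4, 3, 4, 3, 2, 4, 3, 4, 3, 2, 4, 3, 4, 3, 2, 4, 3, 4, 3, 2, 4, 3, 4, 3, 2, 5, 4, 3, 4, 3, 2, 4, 3, 4, 3, 2, 4, 3, 4, 3, 2, 4, 3, 4, 3, 2, 4, 3, 4, 3, 2] 0 1 = true := by decide +kernel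

theorem rel33 : T.rel 1 [2, 1, 2, 1] 0 1 = true := by decide +kernel

theorem rel34 : T.rel 1 [3, 2, 3, 2] 0 1 = true := by decide +kernel

theorem rel35 : T.rel 1 [6, 2, 6, 2] 0 1 = true := by decide +kernel

theorem rel36 : T.rel 1 [7, 2, 7, 2] 0 1 = true := by decide +kernel

theorem rel37 : T.rel 1 [4, 3, 4, 3] 0 1 = true := by decide +kernel

theorem rel38 : T.rel 1 [5, 4, 5, 4] 0 1 = true := by decide +kernel

theorem rel39 : T.rel 1 [7, 6, 7, 6] 0 1 = true := by decide +kernel

theorem hcov : T.treeCov (ones 1) L 1 = true := by decide +kernel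

theorem hg : lall (fun z => band (memL L z) (band (sub (ones 1) (T.let z).cl) (T.closed (ones 1) z))) gs = true := by decide +kernel

theorem hivk : ivOk (2 * 7) EX IV = true := by decide +kernel

theorem hrt : RT.ok (2 * 7) EX RL = true := by decide +kernel

theorem hdefs : defs F 15 = true := by decide +kernel

noncomputable def st0_l : List Nat := [nat_lit 0x80000100000003, nat_lit 0x480007c00002000030000480007c00002000030000480007c0a, nat_lit 0x80001080000403, nat_lit 0x1100007c02, nat_lit 0xa0000200000003, nat_lit 0x40001280009803, nat_lit 0x138000900000a000290001380009006, nat_lit 0xb0001580000003, nat_lit 0x1600001002, nat_lit 0xc0000300000003, nat_lit 0x6000170000c003, nat_lit 0xc40005e00007000198000c40005e00007000068000c809, nat_lit 0x70001a0000c403, nat_lit 0x8000dc02, nat_lit 0xe0001c80003c03, nat_lit 0x1d000038000700000f0001d000038000700000f0001d0000380a, nat_lit 0x78000f402, nat_lit 0x100001f80004403, nat_lit 0x200000400007c000110002000004006, nat_lit 0x880010c02, nat_lit 0x120001f80004c03, nat_lit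 0x120002280004c03, nat_lit 0x160000a00004803, nat_lit 0xb80012c00026000150000b80012c06, nat_lit 0x160002680004c03, nat_lit 0x2700012c02, nat_lit 0x2880004c0009200012000228000fc0002600049000090001140007e00013000248000480008a0003f0000980012400024000450001f80004c0009200012000228000fc000a0000120002280004c0009200047000090001140002600049000238000480008a000130002480011c0002400045000098001240008e000120002280004c00092000470002880004c0009200012000228000fc0002600049000090001140007e00013000248000480008a0003f0000980012400024000450001f80004c0009200012000228000fc4e, nat_lit 0x980014c02, nat_lit 0x180002a80006403, nat_lit 0x2b000060000a8000190002b00006006, nat_lit 0xc80016402, nat_lit 0x1a0001f80006c03, nat_lit 0x2e0000680007c0001b0002e00006806, nat_lit 0xd80017c02, nat_lit 0x1c0001f80007403, nat_lit 0x310000700007c0001d0003100007006, nat_lit 0xe80019402]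
theorem st0 : band (steps F IV RT base st0_l 15) (Nat.beq (Nat.add 15 (llen st0_l)) 52) = true := by decide +kernel

theorem ep0a : T.treePath [] (Nat.shiftLeft 1 0) 1 = true := by decide +kernel

theorem ep0b : T.treePath [] (Nat.shiftLeft 1 0) 1 = true := by decide +kernel

theorem ep0c : band (lall (fun z => Nat.ble z 255) ([] ++ 1 :: [])) (concl F IV 52 0xe001 (encA ([] ++ 1 :: []) 0)) = true := by decide +kernel

theorem ep0d : band (Rule.ok (2 * 7) EX [] ⟨lapp [] [], [], 0, false⟩) (band (lall (memL L) []) (lall (memL L) [])) = true := by decide +kernel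

theorem cov1 : T.cover 1 [(Nat.shiftLeft 1 0)] = true := by decide +kernel

theorem tl1 : Nat.beq (T.let 1).tt 0 = true := by decide +kernel

theorem ep1a : T.treePath [] (Nat.shiftLeft 1 0) 1 = true := by decide +kernel

theorem ep1b : T.treePath [] (Nat.shiftLeft 1 0) 1 = true := by decide +kernel

theorem ep1c : band (lall (fun z => Nat.ble z 255) ([] ++ 2 :: [])) (concl F IV 52 0xf801 (encA ([] ++ 2 :: []) 0)) = true := by decide +kernel

theorem ep1d : band (Rule.ok (2 * 7) EX [] ⟨lapp [] [], [], 0, false⟩) (band (lall (memL L) []) (lall (memL L) [])) = true := by decide +kernel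

theorem cov2 : T.cover 2 [(Nat.shiftLeft 1 0)] = true := by decide +kernel

theorem tl2 : Nat.beq (T.let 2).tt 0 = true := by decide +kernel

theorem ep2a : T.treePath [] (Nat.shiftLeft 1 0) 1 = true := by decide +kernel

theorem ep2b : T.treePath [] (Nat.shiftLeft 1 0) 1 = true := by decide +kernel

theorem ep2c : band (lall (fun z => Nat.ble z 255) ([] ++ 3 :: [])) (concl F IV 52 0x11001 (encA ([] ++ 3 :: []) 0)) = true := by decide +kernel

theorem ep2d : band (Rule.ok (2 * 7) EX [] ⟨lapp [] [], [], 0, false⟩) (band (lall (memL L) []) (lall (memL L) [])) = true := by decide +kernel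

theorem cov3 : T.cover 3 [(Nat.shiftLeft 1 0)] = true := by decide +kernel

theorem tl3 : Nat.beq (T.let 3).tt 0 = true := by decide +kernel

theorem ep3a : T.treePath [] (Nat.shiftLeft 1 0) 1 = true := by decide +kernel

theorem ep3b : T.treePath [] (Nat.shiftLeft 1 0) 1 = true := by decide +kernel

theorem ep3c : band (lall (fun z => Nat.ble z 255) ([] ++ 4 :: [])) (concl F IV 52 0x15001 (encA ([] ++ 4 :: []) 0)) = true := by decide +kernel

theorem ep3d : band (Rule.ok (2 * 7) EX [] ⟨lapp [] [], [], 0, false⟩) (band (lall (memL L) []) (lall (memL L) [])) = true := by decide +kernel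

theorem cov4 : T.cover 4 [(Nat.shiftLeft 1 0)] = true := by decide +kernel

theorem tl4 : Nat.beq (T.let 4).tt 0 = true := by decide +kernel

theorem ep4a : T.treePath [] (Nat.shiftLeft 1 0) 1 = true := by decide +kernel

theorem ep4b : T.treePath [] (Nat.shiftLeft 1 0) 1 = true := by decide +kernel

theorem ep4c : band (lall (fun z => Nat.ble z 255) ([] ++ 5 :: [])) (concl F IV 52 0x16801 (encA ([] ++ 5 :: []) 0)) = true := by decide +kernel

theorem ep4d : band (Rule.ok (2 * 7) EX [] ⟨lapp [] [], [], 0, false⟩) (band (lall (memL L) []) (lall (memL L) [])) = true := by decide +kernel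

theorem cov5 : T.cover 5 [(Nat.shiftLeft 1 0)] = true := by decide +kernel

theorem tl5 : Nat.beq (T.let 5).tt 0 = true := by decide +kernel

theorem ep5a : T.treePath [] (Nat.shiftLeft 1 0) 1 = true := by decide +kernel

theorem ep5b : T.treePath [] (Nat.shiftLeft 1 0) 1 = true := by decide +kernel

theorem ep5c : band (lall (fun z => Nat.ble z 255) ([] ++ 6 :: [])) (concl F IV 52 0x18001 (encA ([] ++ 6 :: []) 0)) = true := by decide +kernel

theorem ep5d : band (Rule.ok (2 * 7) EX [] ⟨lapp [] [], [], 0, false⟩) (band (lall (memL L) []) (lall (memL L) [])) = true := by decide +kernel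

theorem cov6 : T.cover 6 [(Nat.shiftLeft 1 0)] = true := by decide +kernel

theorem tl6 : Nat.beq (T.let 6).tt 0 = true := by decide +kernel

theorem ep6a : T.treePath [] (Nat.shiftLeft 1 0) 1 = true := by decide +kernel

theorem ep6b : T.treePath [] (Nat.shiftLeft 1 0) 1 = true := by decide +kernel

theorem ep6c : band (lall (fun z => Nat.ble z 255) ([] ++ 7 :: [])) (concl F IV 52 0x19801 (encA ([] ++ 7 :: []) 0)) = true := by decide +kernel

theorem ep6d : band (Rule.ok (2 * 7) EX [] ⟨lapp [] [], [], 0, false⟩) (band (lall (memL L) []) (lall (memL L) [])) = true := by decide +kernel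

theorem cov7 : T.cover 7 [(Nat.shiftLeft 1 0)] = true := by decide +kernel

theorem tl7 : Nat.beq (T.let 7).tt 0 = true := by decide +kernel

end Cfsg.Agent.Spor.SuzA1
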